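import Groth.Prelude.Def_NonAbH1
import Groth.Agent.CechTorsor.Basic

/-!
Sheaves of cosets and their fibres: the boundary map of non-abelian cohomology on an arbitrary site.
-/

universe w v u

open CategoryTheory Opposite
open Groth.Agent.CechTorsor (set_sep)

namespace Groth.Agent.GShLib28

open NonAbH1

variable {C : Type u} [Category.{v} C] {J : GrothendieckTopology C} {G : Sheaf J GrpCat.{w}}

theorem set_glue (P : Sheaf J (Type w)) {V : C} (S : Sieve V) (hS : S ∈ J V)
    (x : ∀ ⦃T : C⦄ (f : T ⟶ V), S f → P.obj.obj (op T))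
    (hx : ∀ ⦃T T' : C⦄ (f : T ⟶ V) (hf : S f) (h : T' ⟶ T),
      P.obj.map h.op (x f hf) = x (h ≫ f) (S.downward_closed hf h)) :
    ∃ p : P.obj.obj (op V), ∀ ⦃T : C⦄ (f : T ⟶ V) (hf : S f), P.obj.map f.op p = x f hf := by
  let fam : Presieve.FamilyOfElements P.obj S.arrows := fun _ f hf => x f hf
  have hc : fam.Compatible := by
    rw [Presieve.compatible_iff_sieveCompatible]
    intro T T' f h hf
    exact (hx f hf h).symm
  obtain ⟨t, ht, -⟩ := ((isSheaf_iff_isSheaf_of_type _ _).1 P.property) S hS fam hc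
  exact ⟨t, fun T f hf => ht f hf⟩

theorem map_map' (P : Cᵒᵖ ⥤ Type w) {V T T' : C} (p : P.obj (op V)) (f : T ⟶ V) (h : T' ⟶ T) :
    P.map h.op (P.map f.op p) = P.map (h ≫ f).op p := by
  rw [op_comp, Functor.map_comp_apply]

/-- Uniquely determined local data on a sheaf of sets glue to a unique section. -/
theorem exists_of_unique_local (P : Sheaf J (Type w)) {V : C}
    (R : ∀ ⦃T : C⦄ (_ : T ⟶ V), P.obj.obj (op T) → Prop)
    (huniq : ∀ ⦃T : C⦄ (f : T ⟶ V) (p p' : P.obj.obj (op T)), R f p → R f p' → p = p')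
    (hres : ∀ ⦃T T' : C⦄ (f : T ⟶ V) (h : T' ⟶ T) (p : P.obj.obj (op T)),
      R f p → R (h ≫ f) (P.obj.map h.op p))
    (S : Sieve V) (hS : S ∈ J V) (hex : ∀ ⦃T : C⦄ (f : T ⟶ V), S f → ∃ p, R f p) :
    ∃ p : P.obj.obj (op V), ∀ ⦃T : C⦄ (f : T ⟶ V), S f → R f (P.obj.map f.op p) := by
  choose x hx using hex
  obtain ⟨p, hp⟩ := set_glue P S hS x
    (fun T T' f hf h => huniq _ _ _ (hres f h _ (hx f hf)) (hx _ _))
  exact ⟨p, fun T f hf => by rw [hp f hf]; exact hx f hf⟩

theorem hom_app_map {P Q : Sheaf J (Type w)} (f : P ⟶ Q) {U V : Cᵒᵖ} (k : U ⟶ V) (p : P.obj.obj U) :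
    f.hom.app V (P.obj.map k p) = Q.obj.map k (f.hom.app U p) :=
  NatTrans.naturality_apply f.hom k p

theorem nat_app_map {F F' : Sheaf J GrpCat.{w}} (u : F ⟶ F') {U V : Cᵒᵖ} (k : U ⟶ V) (p : F.obj.obj U) :
    F'.obj.map k (u.hom.app U p) = u.hom.app V (F.obj.map k p) :=
  (ConcreteCategory.congr_hom (u.hom.naturality k) p).symm

/-- An equivariant morphism which is bijective on sections is an equivariant isomorphism. -/
noncomputable def isoOfBijective {P Q : GSheaf G} (f : P ⟶ Q)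
    (h : ∀ U, Function.Bijective (f.hom.hom.app U)) : P ≅ Q where
  hom := f
  inv :=
    { hom := ⟨{ app := fun U => TypeCat.ofHom (Equiv.ofBijective _ (h U)).symm
                naturality := fun U V k => by
                  ext q
                  refine (h V).1 ?_
                  show f.hom.hom.app V ((Equiv.ofBijective _ (h V)).symm (Q.P.obj.map k q)) =
                    f.hom.hom.app V (P.P.obj.map k ((Equiv.ofBijective _ (h U)).symm q))
                  rw [hom_app_map]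
                  exact (Equiv.apply_symm_apply (Equiv.ofBijective _ (h V)) _).trans
                    (congrArg _ (Equiv.apply_symm_apply (Equiv.ofBijective _ (h U)) q).symm) }⟩
      map_smul := fun {U} g p => (h U).1 (by
        show f.hom.hom.app U ((Equiv.ofBijective _ (h U)).symm (Q.smul g p)) =
          f.hom.hom.app U (P.smul g ((Equiv.ofBijective _ (h U)).symm p))
        rw [f.map_smul]
        exact (Equiv.apply_symm_apply (Equiv.ofBijective _ (h U)) _).trans
          (congrArg _ (Equiv.apply_symm_apply (Equiv.ofBijective _ (h U)) p).symm)) }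
  hom_inv_id := by
    apply GSheaf.hom_ext
    apply Sheaf.hom_ext
    ext U p
    exact (Equiv.ofBijective _ (h U)).symm_apply_apply p
  inv_hom_id := by
    apply GSheaf.hom_ext
    apply Sheaf.hom_ext
    ext U p
    exact (Equiv.ofBijective _ (h U)).apply_symm_apply p

theorem iso_bijective {P Q : GSheaf G} (e : P ≅ Q) (U : Cᵒᵖ) : Function.Bijective (e.hom.hom.hom.app U) := by
  refine Function.bijective_iff_has_inverse.mpr ⟨e.inv.hom.hom.app U, fun p => ?_, fun p => ?_⟩
  · have := congrArg (fun k : P ⟶ P => k.hom.hom.app U p) e.hom_inv_id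
    exact this
  · have := congrArg (fun k : Q ⟶ Q => k.hom.hom.app U p) e.inv_hom_id
    exact this

/-- A pseudo-torsor is trivial on the objects over which it has a section: global version. -/
theorem isTrivial_of_section [J.HasSheafCompose (forget GrpCat.{w})] {P : GSheaf G}
    (hP : P.IsPseudoTorsor) (s : P.P.obj.sections) : P.IsTrivial := by
  let f : GSheaf.trivial G ⟶ P :=
    { hom := ⟨{ app := fun U => TypeCat.ofHom fun g => P.smul (GSheaf.toGrp g) (s.1 U)
                naturality := fun U V k => by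
                  ext g
                  show P.smul (G.obj.map k (GSheaf.toGrp g)) (s.1 V) = P.P.obj.map k (P.smul (GSheaf.toGrp g) (s.1 U))
                  rw [P.map_smul, s.2 k] }⟩
      map_smul := fun {U} g p => P.mul_smul g (GSheaf.toGrp p) (s.1 U) }
  exact ⟨isoOfBijective f fun U => ⟨fun a b hab => (hP U (s.1 U) _).unique rfl hab.symm,
    fun q => ⟨(hP U (s.1 U) q).choose, (hP U (s.1 U) q).choose_spec.1⟩⟩⟩

theorem torsor_cl_eq_iff {P Q : Torsor G} : P.cl = Q.cl ↔ Nonempty (P.toGSheaf ≅ Q.toGSheaf) :=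
  ⟨fun h => by
    have := Quot.eqvGen_exact h
    clear h
    induction this with
    | rel _ _ h => exact h
    | refl _ => exact ⟨Iso.refl _⟩
    | symm _ _ _ h => exact ⟨h.some.symm⟩
    | trans _ _ _ _ _ h h' => exact ⟨h.some ≪≫ h'.some⟩, fun h => Quot.sound h⟩

variable [J.HasSheafCompose (forget GrpCat.{w})] {F : Sheaf J GrpCat.{w}} {u : F ⟶ G}
  {Q : GSheaf G} {π : GSheaf.trivial G ⟶ Q}

open GSheaf (ofGrp toGrp)

theorem pi_mul {U : Cᵒᵖ} (g h : G.obj.obj U) :
    π.hom.hom.app U (ofGrp (g * h)) = Q.smul g (π.hom.hom.app U (ofGrp h)) :=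
  π.map_smul g (ofGrp h)

theorem map_pi {U V : Cᵒᵖ} (k : U ⟶ V) (g : G.obj.obj U) :
    Q.P.obj.map k (π.hom.hom.app U (ofGrp g)) = π.hom.hom.app V (ofGrp (G.obj.map k g)) :=
  (hom_app_map π.hom k (ofGrp g)).symm

theorem map_iota {T : GSheaf F} (ι : T.P ⟶ GSheaf.uSh G) {U V : Cᵒᵖ} (k : U ⟶ V) (t : T.P.obj.obj U) :
    toGrp (ι.hom.app V (T.P.obj.map k t)) = G.obj.map k (toGrp (ι.hom.app U t)) :=
  hom_app_map ι k t

theorem pi_mul_inv (hQ : GSheaf.IsQuotientBy u π) {U : Cᵒᵖ} (g : G.obj.obj U) (f : F.obj.obj U) :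
    π.hom.hom.app U (ofGrp (g * (u.hom.app U f)⁻¹)) = π.hom.hom.app U (ofGrp g) :=
  ((hQ.1 U _ _).2 ⟨f, by rw [inv_mul_cancel_right]⟩)

variable (u π)

/-- The presheaf of liftings of a global section of `G/F`. -/
def fibPre (c : Q.P.obj.sections) : Cᵒᵖ ⥤ Type w where
  obj U := {g : G.obj.obj U // π.hom.hom.app U (ofGrp g) = c.1 U}
  map {U V} k := TypeCat.ofHom fun g => ⟨G.obj.map k g.1, by rw [← map_pi, g.2, c.2 k]⟩
  map_id U := by
    ext g

    exact ConcreteCategory.congr_hom (G.obj.map_id U) g.1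
  map_comp k l := by
    ext g

    exact ConcreteCategory.congr_hom (G.obj.map_comp k l) g.1

theorem fibPre_isSheaf (c : Q.P.obj.sections) : Presheaf.IsSheaf J (fibPre π c) := by
  rw [isSheaf_iff_isSheaf_of_type]
  intro V S hS fam hfam
  have hfam' := (Presieve.compatible_iff_sieveCompatible fam).1 hfam
  obtain ⟨g, hg⟩ := set_glue (GSheaf.uSh G) S hS (fun T f hf => ofGrp (fam f hf).1)
    (fun T T' f hf h => congrArg Subtype.val (hfam' f h hf).symm)
  refine ⟨⟨g, ?_⟩, fun T f hf => Subtype.ext (hg f hf), fun g' hg' => Subtype.ext ?_⟩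
  · refine set_sep Q.P S hS fun T f hf => ?_
    have h1 : G.obj.map f.op (toGrp g) = (fam f hf).1 := hg f hf
    refine (map_pi f.op (toGrp g)).trans ?_
    rw [h1, c.2 f.op]
    exact (fam f hf).2
  · exact set_sep (GSheaf.uSh G) S hS fun T f hf => (congrArg Subtype.val (hg' f hf)).trans (hg f hf).symm

/-- The sheaf of liftings with its right translation action. -/
def fib (hQ : GSheaf.IsQuotientBy u π) (c : Q.P.obj.sections) : GSheaf F where
  P := ⟨fibPre π c, fibPre_isSheaf π c⟩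
  smul {U} f g := ⟨g.1 * (u.hom.app U f)⁻¹, by rw [pi_mul_inv hQ, g.2]⟩
  one_smul g := Subtype.ext (by simp)
  mul_smul f f' g := Subtype.ext (by simp [mul_assoc])
  map_smul {U V} k f g := Subtype.ext (by
    show G.obj.map k (g.1 * (u.hom.app U f)⁻¹) = G.obj.map k g.1 * (u.hom.app V (F.obj.map k f))⁻¹
    rw [map_mul, map_inv, nat_app_map])

theorem fib_isFibreOver (hQ : GSheaf.IsQuotientBy u π) (c : Q.P.obj.sections) :
    GSheaf.IsFibreOver u π c (fib u π hQ c) :=
  ⟨⟨{ app := fun U => TypeCat.ofHom fun g => ofGrp g.1 }⟩, fun U a b h => Subtype.ext h,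
    fun U g => ⟨fun ⟨t, ht⟩ => ht ▸ t.2, fun hg => ⟨⟨g, hg⟩, rfl⟩⟩, fun U f t => rfl⟩

variable {u π}
variable (hu : ∀ U : Cᵒᵖ, Function.Injective (u.hom.app U)) (hQ : GSheaf.IsQuotientBy u π)

include hu hQ in
theorem isTorsor_of_isFibreOver {c : Q.P.obj.sections} {T : GSheaf F}
    (hT : GSheaf.IsFibreOver u π c T) : T.IsTorsor := by
  obtain ⟨ι, hinj, hrange, hsmul⟩ := hT
  refine ⟨fun U p q => ?_, fun U => ?_⟩
  · have hp := (hrange U _).1 ⟨p, rfl⟩
    have hq := (hrange U _).1 ⟨q, rfl⟩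
    obtain ⟨f, hf⟩ := (hQ.1 U _ _).1 (hp.trans hq.symm)
    refine ⟨f⁻¹, hinj U ?_, fun g hg => ?_⟩
    · show toGrp (ι.hom.app U (T.smul f⁻¹ p)) = toGrp (ι.hom.app U q)
      rw [hsmul, hf, map_inv, inv_inv]
    · have := congrArg (fun x => toGrp (ι.hom.app U x)) hg
      simp only [hsmul, hf] at this
      refine hu U ?_
      rw [map_inv, ← mul_left_cancel this, inv_inv]
  · obtain ⟨S, hS, hs⟩ := hQ.2 U (c.1 (op U))
    refine ⟨S, hS, fun V a ha => ?_⟩
    obtain ⟨g, hg⟩ := hs a ha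
    rw [c.2 a.op] at hg
    obtain ⟨t, -⟩ := (hrange _ g).2 hg
    exact ⟨t⟩

theorem nonempty_iso_of_isFibreOver {c : Q.P.obj.sections} {T T' : GSheaf F}
    (hT : GSheaf.IsFibreOver u π c T) (hT' : GSheaf.IsFibreOver u π c T') : Nonempty (T ≅ T') := by
  obtain ⟨ι, hinj, hrange, hsmul⟩ := hT
  obtain ⟨ι', hinj', hrange', hsmul'⟩ := hT'
  choose φ hφ using fun (U : Cᵒᵖ) (t : T.P.obj.obj U) =>
    (hrange' U (toGrp (ι.hom.app U t))).2 ((hrange U _).1 ⟨t, rfl⟩)
  let f : T ⟶ T' :=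
    { hom := ⟨{ app := fun U => TypeCat.ofHom (φ U)
                naturality := fun U V k => by
                  ext t
                  refine hinj' V ?_
                  show toGrp (ι'.hom.app V (φ V (T.P.obj.map k t))) =
                    toGrp (ι'.hom.app V (T'.P.obj.map k (φ U t)))
                  rw [hφ, map_iota, map_iota, hφ] }⟩
      map_smul := fun {U} g p => hinj' U (by
        show toGrp (ι'.hom.app U (φ U _)) = toGrp (ι'.hom.app U (T'.smul g (φ U p)))
        rw [hφ, hsmul, hsmul', hφ]) }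
  refine ⟨isoOfBijective f fun U => ⟨fun a b hab => hinj U ?_, fun t' => ?_⟩⟩
  · show toGrp (ι.hom.app U a) = toGrp (ι.hom.app U b)
    rw [← hφ, ← hφ]
    exact congrArg (fun x => toGrp (ι'.hom.app U x)) hab
  · obtain ⟨t, ht⟩ := (hrange U _).2 ((hrange' U _).1 ⟨t', rfl⟩)
    exact ⟨t, hinj' U ((hφ U t).trans ht)⟩

theorem isFibreOver_of_iso {c : Q.P.obj.sections} {T T' : GSheaf F} (e : T' ≅ T)
    (hT : GSheaf.IsFibreOver u π c T) : GSheaf.IsFibreOver u π c T' := by
  obtain ⟨ι, hinj, hrange, hsmul⟩ := hT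
  refine ⟨e.hom.hom ≫ ι, fun U => (hinj U).comp (iso_bijective e U).1, fun U g => ?_, fun U f t => ?_⟩
  · rw [← hrange U g]
    exact ⟨fun ⟨t, ht⟩ => ⟨_, ht⟩, fun ⟨t, ht⟩ => by
      obtain ⟨t', rfl⟩ := (iso_bijective e U).2 t
      exact ⟨t', ht⟩⟩
  · show toGrp (ι.hom.app U (e.hom.hom.hom.app U (T'.smul f t))) = _
    rw [e.hom.map_smul, hsmul]
    rfl

end Groth.Agent.GShLib28
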