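import Groth.Agent.GShLib28.Basic

/-!
Exactness of the non-abelian cohomology sequence on an arbitrary site.
-/

universe w v u

open CategoryTheory Opposite
open Groth.Agent.CechTorsor (set_sep)

namespace Groth.Agent.GShLib28

open NonAbH1
open GSheaf (ofGrp toGrp)

variable {C : Type u} [Category.{v} C] {J : GrothendieckTopology C} [J.HasSheafCompose (forget GrpCat.{w})]
  {F G : Sheaf J GrpCat.{w}} {u : F ⟶ G} {Q : GSheaf G} {π : GSheaf.trivial G ⟶ Q}
  (hu : ∀ U : Cᵒᵖ, Function.Injective (u.hom.app U)) (hQ : GSheaf.IsQuotientBy u π)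

include hu hQ

theorem pushforward_trivial_iff (T : Torsor F) :
    GSheaf.IsPushforwardAlong u T.toGSheaf (GSheaf.trivial G) ↔
      ∃ c : Q.P.obj.sections, GSheaf.IsFibreOver u π c T.toGSheaf := by
  constructor
  · intro hpush
    obtain ⟨f, hf⟩ : ∃ f : T.P ⟶ GSheaf.uSh G, ∀ (U : Cᵒᵖ) (g : F.obj.obj U) (p : T.P.obj.obj U),
        toGrp (f.hom.app U (T.smul g p)) = u.hom.app U g * toGrp (f.hom.app U p) := hpush
    let a : ∀ (U : Cᵒᵖ), T.P.obj.obj U → G.obj.obj U := fun U t => (toGrp (f.hom.app U t))⁻¹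
    have ha : ∀ (U : Cᵒᵖ) (g : F.obj.obj U) (t : T.P.obj.obj U),
        a U (T.smul g t) = a U t * (u.hom.app U g)⁻¹ := fun U g t => by
      show (toGrp (f.hom.app U (T.smul g t)))⁻¹ = (toGrp (f.hom.app U t))⁻¹ * _
      rw [hf]
      exact mul_inv_rev _ _
    have hmap : ∀ {U V : Cᵒᵖ} (k : U ⟶ V) (t : T.P.obj.obj U),
        a V (T.P.obj.map k t) = G.obj.map k (a U t) := fun {U V} k t => by
      show (toGrp (f.hom.app V _))⁻¹ = G.obj.map k (toGrp (f.hom.app U t))⁻¹
      rw [map_iota f k t, map_inv]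
    have hindep : ∀ (U : Cᵒᵖ) (t t' : T.P.obj.obj U),
        π.hom.hom.app U (ofGrp (a U t)) = π.hom.hom.app U (ofGrp (a U t')) := fun U t t' => by
      obtain ⟨g, rfl, -⟩ := T.isTorsor.1 U t t'
      rw [ha, pi_mul_inv hQ]
    have hloc : ∀ U : C, ∃ q : Q.P.obj.obj (op U), ∀ ⦃V : C⦄ (k : V ⟶ U) (t : T.P.obj.obj (op V)),
        Q.P.obj.map k.op q = π.hom.hom.app (op V) (ofGrp (a _ t)) := by
      intro U
      obtain ⟨S, hS, hs⟩ := T.isTorsor.2 U
      obtain ⟨q, hq⟩ := exists_of_unique_local Q.P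
        (fun V _ p => ∃ t : T.P.obj.obj (op V), p = π.hom.hom.app (op V) (ofGrp (a _ t)))
        (fun V k p p' ⟨t, ht⟩ ⟨t', ht'⟩ => by rw [ht, ht', hindep])
        (fun V V' k h p ⟨t, ht⟩ => ⟨T.P.obj.map h.op t, by rw [ht, map_pi, hmap]⟩)
        S hS (fun V k hk => ⟨_, (hs k hk).some, rfl⟩)
      refine ⟨q, fun V k t => set_sep Q.P _ (J.pullback_stable k hS) fun W h hh => ?_⟩
      obtain ⟨t', ht'⟩ := hq (h ≫ k) hh
      rw [map_map', map_pi, ← hmap, ht']
      exact hindep _ _ _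
    choose c hc using hloc
    refine ⟨⟨fun U => c U.unop, fun {U V} k => ?_⟩, ?_⟩
    · obtain ⟨U⟩ := U
      obtain ⟨V⟩ := V
      obtain ⟨S, hS, hs⟩ := T.isTorsor.2 V
      refine set_sep Q.P S hS fun W h hh => ?_
      show Q.P.obj.map h.op (Q.P.obj.map k (c U)) = Q.P.obj.map h.op (c V)
      rw [hc V h (hs h hh).some, ← hc U (h ≫ k.unop) (hs h hh).some, ← map_map']
      rfl
    · refine ⟨⟨{ app := fun U => TypeCat.ofHom fun t => ofGrp (a U t)
                 naturality := fun U V k => by ext t; exact hmap k t }⟩, fun U t t' htt => ?_,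
        fun U g => ⟨?_, fun hg => ?_⟩, ha⟩
      · obtain ⟨g, hg, -⟩ := T.isTorsor.1 U t t'
        have h1 : a U t = a U (T.smul g t) := htt.trans (congrArg (a U) hg.symm)
        rw [ha, left_eq_mul, inv_eq_one] at h1
        rw [← hg, hu U (h1.trans (map_one _).symm), T.one_smul]
      · rintro ⟨t, rfl⟩
        obtain ⟨U⟩ := U
        refine (hc U (𝟙 U) t).symm.trans ?_
        rw [op_id, Functor.map_id_apply]
      · obtain ⟨U⟩ := U
        obtain ⟨S, hS, hs⟩ := T.isTorsor.2 U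
        obtain ⟨t, ht⟩ := exists_of_unique_local T.P
          (fun V k p => a (op V) p = G.obj.map k.op g)
          (fun V k p p' hp hp' => by
            obtain ⟨h, hh, -⟩ := T.isTorsor.1 _ p p'
            have h1 : a (op V) p = a (op V) (T.smul h p) := by rw [hp, hh, hp']
            rw [ha, left_eq_mul, inv_eq_one] at h1
            rw [← hh, hu _ (h1.trans (map_one _).symm), T.one_smul])
          (fun V V' k h p hp => by
            rw [hmap, hp, op_comp, Functor.map_comp]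
            rfl)
          S hS (fun V k hk => by
            have h1 : π.hom.hom.app (op V) (ofGrp (G.obj.map k.op g)) =
                π.hom.hom.app (op V) (ofGrp (a _ (hs k hk).some)) := by
              rw [← map_pi, hg]
              exact hc U k _
            obtain ⟨f', hf'⟩ := (hQ.1 _ _ _).1 h1.symm
            exact ⟨T.smul f'⁻¹ (hs k hk).some, by rw [ha, hf', map_inv, inv_inv]⟩)
        refine ⟨t, Groth.Agent.CechTorsor.group_sep S hS fun V k hk => ?_⟩
        show G.obj.map k.op (a _ t) = _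
        rw [← hmap]
        exact ht k hk
  · rintro ⟨c, ι, -, -, hsmul⟩
    refine ⟨⟨{ app := fun U => TypeCat.ofHom fun t => ofGrp (toGrp (ι.hom.app U t))⁻¹
               naturality := fun U V k => by
                ext t
                show (toGrp (ι.hom.app V (T.P.obj.map k t)))⁻¹ = G.obj.map k (toGrp (ι.hom.app U t))⁻¹
                rw [map_iota, map_inv] }⟩, fun U g t => ?_⟩
    show (toGrp (ι.hom.app U (T.smul g t)))⁻¹ = u.hom.app U g * (toGrp (ι.hom.app U t))⁻¹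
    rw [hsmul, mul_inv_rev, inv_inv]

theorem fibres_iso_iff (c c' : Q.P.obj.sections) (T T' : GSheaf F)
    (hT : GSheaf.IsFibreOver u π c T) (hT' : GSheaf.IsFibreOver u π c' T') :
    Nonempty (T ≅ T') ↔
      ∃ g : (GSheaf.uSh G).obj.sections, ∀ U : Cᵒᵖ, Q.smul (toGrp (g.1 U)) (c.1 U) = c'.1 U := by
  have hTt := isTorsor_of_isFibreOver hu hQ hT
  constructor
  · rintro ⟨e⟩
    obtain ⟨ι, -, hrange, hsmul⟩ := hT
    obtain ⟨ι', -, hrange', hsmul'⟩ := hT'
    let d : ∀ (U : Cᵒᵖ), T.P.obj.obj U → G.obj.obj U := fun U t =>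
      toGrp (ι'.hom.app U (e.hom.hom.hom.app U t)) * (toGrp (ι.hom.app U t))⁻¹
    have hindep : ∀ U t t', d U t = d U t' := fun U t t' => by
      obtain ⟨g, rfl, -⟩ := hTt.1 U t t'
      show _ = toGrp (ι'.hom.app U (e.hom.hom.hom.app U (T.smul g t))) * (toGrp (ι.hom.app U (T.smul g t)))⁻¹
      rw [e.hom.map_smul, hsmul, hsmul', mul_inv_rev, inv_inv, mul_assoc,
        inv_mul_cancel_left]
    have hmap : ∀ {U V : Cᵒᵖ} (k : U ⟶ V) (t : T.P.obj.obj U),
        d V (T.P.obj.map k t) = G.obj.map k (d U t) := fun {U V} k t => by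
      show toGrp (ι'.hom.app V (e.hom.hom.hom.app V (T.P.obj.map k t))) *
        (toGrp (ι.hom.app V (T.P.obj.map k t)))⁻¹ = G.obj.map k (_ * _)
      rw [hom_app_map e.hom.hom, map_iota, map_iota, map_mul, map_inv]
    have hloc : ∀ U : C, ∃ q : (GSheaf.uSh G).obj.obj (op U), ∀ ⦃V : C⦄ (k : V ⟶ U)
        (t : T.P.obj.obj (op V)), (GSheaf.uSh G).obj.map k.op q = ofGrp (d _ t) := by
      intro U
      obtain ⟨S, hS, hs⟩ := hTt.2 U
      obtain ⟨q, hq⟩ := exists_of_unique_local (GSheaf.uSh G)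
        (fun V _ p => ∃ t : T.P.obj.obj (op V), p = ofGrp (d _ t))
        (fun V k p p' ⟨t, ht⟩ ⟨t', ht'⟩ => ht.trans ((hindep _ t t').trans ht'.symm))
        (fun V V' k h p ⟨t, ht⟩ => ⟨T.P.obj.map h.op t, by rw [ht]; exact (hmap h.op t).symm⟩)
        S hS (fun V k hk => ⟨_, (hs k hk).some, rfl⟩)
      refine ⟨q, fun V k t => set_sep (GSheaf.uSh G) _ (J.pullback_stable k hS) fun W h hh => ?_⟩
      obtain ⟨t', ht'⟩ := hq (h ≫ k) hh
      rw [map_map', ht']
      exact (hindep _ t' _).trans (hmap h.op t)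
    choose g hg using hloc
    refine ⟨⟨fun U => g U.unop, fun {U V} k => ?_⟩, fun U => ?_⟩
    · obtain ⟨U⟩ := U
      obtain ⟨V⟩ := V
      obtain ⟨S, hS, hs⟩ := hTt.2 V
      refine set_sep (GSheaf.uSh G) S hS fun W h hh => ?_
      show (GSheaf.uSh G).obj.map h.op ((GSheaf.uSh G).obj.map k (g U)) =
        (GSheaf.uSh G).obj.map h.op (g V)
      rw [hg V h (hs h hh).some, ← hg U (h ≫ k.unop) (hs h hh).some, ← map_map']
      rfl
    · obtain ⟨U⟩ := U
      obtain ⟨S, hS, hs⟩ := hTt.2 U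
      refine set_sep Q.P S hS fun W h hh => ?_
      let t := (hs h hh).some
      have h2 : G.obj.map h.op (toGrp (g U)) = d _ t := hg U h t
      show Q.P.obj.map h.op (Q.smul (toGrp (g U)) (c.1 (op U))) = Q.P.obj.map h.op (c'.1 (op U))
      rw [Q.map_smul, h2, c.2 h.op, c'.2 h.op, ← (hrange _ _).1 ⟨t, rfl⟩,
        ← (hrange' _ _).1 ⟨e.hom.hom.hom.app _ t, rfl⟩, ← pi_mul]
      show π.hom.hom.app _ (ofGrp (_ * _ * _)) = _
      rw [inv_mul_cancel_right]
  · rintro ⟨g, hg⟩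
    refine nonempty_iso_of_isFibreOver ?_ hT'
    obtain ⟨ι, hinj, hrange, hsmul⟩ := hT
    refine ⟨⟨{ app := fun U => TypeCat.ofHom fun t => ofGrp (toGrp (g.1 U) * toGrp (ι.hom.app U t))
               naturality := fun U V k => by
                ext t
                show toGrp (g.1 V) * toGrp (ι.hom.app V (T.P.obj.map k t)) =
                  G.obj.map k (toGrp (g.1 U) * toGrp (ι.hom.app U t))
                rw [map_mul, map_iota]
                exact congrArg (· * _) (g.2 k).symm }⟩,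
      fun U a b h => hinj U (mul_left_cancel (a := toGrp (g.1 U)) (b := toGrp (ι.hom.app U a))
        (c := toGrp (ι.hom.app U b)) h), fun U x => ⟨?_, fun hx => ?_⟩,
      fun U f t => ?_⟩
    · rintro ⟨t, rfl⟩
      refine (pi_mul (toGrp (g.1 U)) (toGrp (ι.hom.app U t))).trans ?_
      rw [(hrange U _).1 ⟨t, rfl⟩, hg]
    · obtain ⟨t, ht⟩ := (hrange U ((toGrp (g.1 U))⁻¹ * x)).2 (by
        rw [pi_mul, hx, ← hg U, ← Q.mul_smul, inv_mul_cancel, Q.one_smul])
      exact ⟨t, (congrArg (toGrp (g.1 U) * ·) ht).trans (mul_inv_cancel_left _ _)⟩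
    · show toGrp (g.1 U) * toGrp (ι.hom.app U (T.smul f t)) = _ * _ * _
      rw [hsmul, mul_assoc]

omit hu hQ in
theorem cl_eq_one_iff (c : Q.P.obj.sections) (T : Torsor F)
    (hT : GSheaf.IsFibreOver u π c T.toGSheaf) :
    T.cl = 1 ↔ ∃ g : (GSheaf.uSh G).obj.sections, ∀ U : Cᵒᵖ, π.hom.hom.app U (g.1 U) = c.1 U := by
  refine (torsor_cl_eq_iff (Q := trivialTorsor F)).trans ⟨?_, ?_⟩
  · rintro ⟨e⟩
    obtain ⟨ι, -, hrange, -⟩ := hT
    refine ⟨⟨fun U => ι.hom.app U (e.inv.hom.hom.app U (ofGrp (1 : F.obj.obj U))), fun {U V} k => ?_⟩,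
      fun U => (hrange U _).1 ⟨_, rfl⟩⟩
    have hone : (GSheaf.uSh F).obj.map k (ofGrp (1 : F.obj.obj U)) = ofGrp (1 : F.obj.obj V) :=
      map_one (F.obj.map k).hom
    refine (hom_app_map ι k _).symm.trans ?_
    refine (congrArg (fun x => ι.hom.app V x)
      (hom_app_map e.inv.hom k (ofGrp (1 : F.obj.obj U))).symm).trans ?_
    exact congrArg (fun x => ι.hom.app V (e.inv.hom.hom.app V x)) hone
  · rintro ⟨g, hg⟩
    obtain ⟨ι, hinj, hrange, -⟩ := hT
    choose t ht using fun U => (hrange U (toGrp (g.1 U))).2 (hg U)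
    have hs : ∀ {U V : Cᵒᵖ} (k : U ⟶ V), T.P.obj.map k (t U) = t V := fun {U V} k => hinj V (by
      show toGrp (ι.hom.app V _) = toGrp (ι.hom.app V _)
      rw [map_iota, ht, ht]
      exact g.2 k)
    exact ⟨(isTrivial_of_section T.isTorsor.1 ⟨t, fun k => hs k⟩).some.symm⟩

end Groth.Agent.GShLib28
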