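import Groth.Agent.GShLib28.PointProd
import Mathlib.AlgebraicGeometry.Sites.EtalePoint

/-!
Embedding a sheaf of groups on the small etale site into the product over all geometric points of its stalks.
-/

universe u

open CategoryTheory CategoryTheory.Limits Opposite AlgebraicGeometry

namespace Groth.Agent.GShLib28

variable (X : Scheme.{u})

/-- A separably closed point over a point of `X`. -/
noncomputable def gpt (s : ULift.{u + 1} ↥X) : (Scheme.smallEtaleTopology X).Point :=
  Scheme.pointSmallEtale ((Scheme.SpecToEquivOfField (SeparableClosure (X.residueField s.down)) _).2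
    ⟨s.down, CommRingCat.ofHom (algebraMap (X.residueField s.down) _)⟩)

/-- The fibre functors in the universe of the sections. -/
noncomputable def gfib (s : ULift.{u + 1} ↥X) : X.Etale ⥤ Type (u + 1) :=
  (gpt X s).fiber ⋙ uliftFunctor.{u + 1}

theorem gfib_goodFam : GoodFam (gfib X) (Scheme.smallEtaleTopology X) where
  surj i Z R hR x := by
    obtain ⟨Y, f, hf, y, hy⟩ := (goodFam_of_points fun _ : PUnit.{u + 1} => gpt X i).surj ⟨⟩ R hR x.down
    exact ⟨Y, f, hf, ⟨y⟩, ULift.ext _ _ hy⟩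
  common i Y Y' Z f f' y y' h := by
    obtain ⟨W, ζ, a, b, ha, hb, hab⟩ := (goodFam_of_points fun _ : PUnit.{u + 1} => gpt X i).common ⟨⟩
      f f' y.down y'.down (congrArg ULift.down h)
    exact ⟨W, ⟨ζ⟩, a, b, ULift.ext _ _ ha, ULift.ext _ _ hb, hab⟩
  equalize i Y Z f f' y h := by
    obtain ⟨W, ζ, e, he, hee⟩ := (goodFam_of_points fun _ : PUnit.{u + 1} => gpt X i).equalize ⟨⟩
      f f' y.down (congrArg ULift.down h)
    exact ⟨W, ⟨ζ⟩, e, ULift.ext _ _ he, hee⟩

theorem gfib_covers {W : X.Etale} (y : W.left) :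
    ∃ (s : ULift.{u + 1} ↥X) (ξ : (gpt X s).fiber.obj W),
      ∀ ⦃V : X.Etale⦄ (e : V ⟶ W) (η : (gpt X s).fiber.obj V),
        (gpt X s).fiber.map e η = ξ → y ∈ Set.range e.left := by
  let s : ULift.{u + 1} ↥X := ⟨W.hom y⟩
  let p := (Scheme.SpecToEquivOfField (SeparableClosure (X.residueField s.down)) _).2
    ⟨s.down, CommRingCat.ofHom (algebraMap (X.residueField s.down) _)⟩
  have hp : p default = W.hom y := by simp [p, s, Scheme.SpecToEquivOfField]
  obtain ⟨ξ, hξ⟩ := Scheme.pointSmallEtaleFiberObjToPreimage_surjective p hp W ⟨y, rfl⟩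
  refine ⟨s, ξ, fun V e η h => ?_⟩
  rw [Subtype.ext_iff] at hξ
  refine ⟨(Scheme.pointSmallEtaleFiberObjToPreimage p hp η).1, ?_⟩
  rw [← h] at hξ
  exact hξ

variable {X} (F : Sheaf (Scheme.smallEtaleTopology X) GrpCat.{u + 1}) (s : ULift.{u + 1} ↥X)

/-- The diagram whose colimit is the stalk. -/
noncomputable def stalkDiag : AsSmall.{u + 1} (gpt X s).fiber.Elementsᵒᵖ ⥤ GrpCat.{u + 1} :=
  AsSmall.down ⋙ (CategoryOfElements.π (gpt X s).fiber).op ⋙ F.obj

instance : IsFiltered (AsSmall.{u + 1} (gpt X s).fiber.Elementsᵒᵖ) :=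
  IsFiltered.of_equivalence AsSmall.equiv

/-- The stalk at a geometric point. -/
noncomputable def stalkGrp : GrpCat.{u + 1} :=
  (GrpCat.FilteredColimits.colimitCocone.{u + 1, u + 1} (stalkDiag F s)).pt

/-- The germ of a section. -/
noncomputable def germ (U : X.Etale) (ξ : (gpt X s).fiber.obj U) : F.obj.obj (op U) ⟶ stalkGrp F s :=
  (GrpCat.FilteredColimits.colimitCocone.{u + 1, u + 1} (stalkDiag F s)).ι.app
    (AsSmall.up.obj (op ((gpt X s).fiber.elementsMk U ξ)))

theorem germ_map {U V : X.Etale} (k : V ⟶ U) (η : (gpt X s).fiber.obj V) (a : F.obj.obj (op U)) :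
    germ F s V η (F.obj.map k.op a) = germ F s U ((gpt X s).fiber.map k η) a := by
  let φ : (gpt X s).fiber.elementsMk V η ⟶ (gpt X s).fiber.elementsMk U ((gpt X s).fiber.map k η) :=
    CategoryOfElements.homMk _ _ k rfl
  exact ConcreteCategory.congr_hom
    ((GrpCat.FilteredColimits.colimitCocone.{u + 1, u + 1} (stalkDiag F s)).w (AsSmall.up.map φ.op)) a

theorem germ_eq {U : X.Etale} (ξ : (gpt X s).fiber.obj U) {a b : F.obj.obj (op U)}
    (h : germ F s U ξ a = germ F s U ξ b) :
    ∃ (V : X.Etale) (k : V ⟶ U) (η : (gpt X s).fiber.obj V),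
      (gpt X s).fiber.map k η = ξ ∧ F.obj.map k.op a = F.obj.map k.op b := by
  obtain ⟨j, f, hf⟩ := (Types.FilteredColimit.isColimit_eq_iff'
    (isColimitOfPreserves (forget GrpCat.{u + 1})
      (GrpCat.FilteredColimits.colimitCoconeIsColimit.{u + 1, u + 1} (stalkDiag F s)))
    (i := AsSmall.up.obj (op ((gpt X s).fiber.elementsMk U ξ))) a b).1 h
  exact ⟨_, (AsSmall.down.map f).unop.1, _, (AsSmall.down.map f).unop.2, hf⟩

/-- The map into the product of all stalks. -/
noncomputable def godement :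
    F ⟶ (⟨ptProd (gfib X) (stalkGrp F), ptProd_isSheaf _ (gfib_goodFam X)⟩ :
      Sheaf (Scheme.smallEtaleTopology X) GrpCat.{u + 1}) :=
  ⟨{ app := fun U => GrpCat.ofHom (Y := (ptProd (gfib X) (stalkGrp F)).obj U)
      { toFun := fun a s ξ => germ F s U.unop ξ.down a
        map_one' := by funext s ξ; exact map_one (germ F s U.unop ξ.down).hom
        map_mul' := fun a b => by funext s ξ; exact map_mul (germ F s U.unop ξ.down).hom a b }
     naturality := fun U V k => by
      ext a
      funext s ξ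
      exact germ_map F s k.unop ξ.down a }⟩

theorem godement_injective (U : X.Etaleᵒᵖ) : Function.Injective ((godement F).hom.app U) := by
  obtain ⟨U⟩ := U
  intro a b h
  have h' : ∀ (s : ULift.{u + 1} ↥X) (ξ : (gpt X s).fiber.obj U),
      germ F s U ξ a = germ F s U ξ b := fun s ξ => congrFun (congrFun h s) ⟨ξ⟩
  choose s ξ hξ using fun y : U.left => gfib_covers X y
  choose V k η hη hk using fun y : U.left => germ_eq F (s y) (ξ y) (h' (s y) (ξ y))
  refine Groth.Agent.CechTorsor.group_sep (Sieve.ofArrows V k)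
    ((Scheme.ofArrows_mem_smallEtaleTopology_iff k).2
      (Set.eq_univ_of_forall fun y => Set.mem_iUnion.2 ⟨y, hξ y (k y) (η y) (hη y)⟩))
    fun T f hf => ?_
  obtain ⟨y, g, rfl⟩ := Sieve.ofArrows.exists hf
  rw [op_comp, Functor.map_comp]
  show F.obj.map g.op (F.obj.map (k y).op a) = F.obj.map g.op (F.obj.map (k y).op b)
  rw [hk y]

end Groth.Agent.GShLib28
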