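import Groth.Agent.GShLib28.Basic
import Groth.Prelude.Def_EtBase

/-!
Torsors under a direct image sheaf of groups on small etale sites.
-/

universe u

open CategoryTheory CategoryTheory.Limits Opposite AlgebraicGeometry

namespace Groth.Agent.GShLib28

open NonAbH1

variable {X Y : Scheme.{u}} (f : X ⟶ Y) {F : Sheaf X.smallEtaleTopology GrpCat.{u + 1}}

/-- The direct image of a sheaf with action, with the action of the direct image of the group. -/
noncomputable def pushGSheaf (Q : GSheaf F) :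
    GSheaf (((EtCoh.bc f).sheafPushforwardContinuous GrpCat.{u + 1}
      Y.smallEtaleTopology X.smallEtaleTopology).obj F) where
  P := ((EtCoh.bc f).sheafPushforwardContinuous (Type (u + 1))
    Y.smallEtaleTopology X.smallEtaleTopology).obj Q.P
  smul {V} g p := Q.smul (U := op ((EtCoh.bc f).obj V.unop)) g p
  one_smul {V} p := Q.one_smul (U := op ((EtCoh.bc f).obj V.unop)) p
  mul_smul {V} g h p := Q.mul_smul (U := op ((EtCoh.bc f).obj V.unop)) g h p
  map_smul {V W} k g p := Q.map_smul ((EtCoh.bc f).map k.unop).op g p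

theorem pushGSheaf_isPseudoTorsor {Q : GSheaf F} (hQ : Q.IsPseudoTorsor) :
    (pushGSheaf f Q).IsPseudoTorsor := fun V p q => hQ (op ((EtCoh.bc f).obj V.unop)) p q

theorem pushGSheaf_locallyNonempty {Q : GSheaf F} {ι : Type u} (V : ι → Y.Etale) (hV : EtCoh.Covers V)
    (h : ∀ i, Nonempty (Q.P.obj.obj (op ((EtCoh.bc f).obj (V i))))) :
    (pushGSheaf f Q).LocallyNonempty := by
  intro W
  choose i y hy using hV
  have hT : ∀ w : W.left, Etale (pullback.fst W.hom (V (i (W.hom w))).hom ≫ W.hom) := fun w => by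
    haveI : Etale W.hom := W.prop
    haveI : Etale (V (i (W.hom w))).hom := (V (i (W.hom w))).prop
    infer_instance
  let T : W.left → Y.Etale := fun w =>
    @Scheme.Etale.mk _ _ (pullback.fst W.hom (V (i (W.hom w))).hom ≫ W.hom) (hT w)
  let g : ∀ w, T w ⟶ W := fun w => MorphismProperty.Over.homMk (pullback.fst W.hom (V (i (W.hom w))).hom) rfl
  let g' : ∀ w, T w ⟶ V (i (W.hom w)) := fun w =>
    MorphismProperty.Over.homMk (pullback.snd W.hom (V (i (W.hom w))).hom) pullback.condition.symm
  refine ⟨Sieve.ofArrows T g, (Scheme.ofArrows_mem_smallEtaleTopology_iff g).2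
    (Set.eq_univ_of_forall fun w => Set.mem_iUnion.2 ⟨w, ?_⟩), fun Z k hk => ?_⟩
  · obtain ⟨z, hz, -⟩ := Scheme.Pullback.exists_preimage_pullback
      (f := W.hom) (g := (V (i (W.hom w))).hom) w (y (W.hom w)) (hy (W.hom w)).symm
    exact ⟨z, hz⟩
  · obtain ⟨w, a, rfl⟩ := Sieve.ofArrows.exists hk
    exact ⟨Q.P.obj.map ((EtCoh.bc f).map (a ≫ g' w)).op (h _).some⟩

set_option backward.isDefEq.respectTransparency.types false in
theorem exists_covers_of_locallyNonempty {G : Sheaf Y.smallEtaleTopology GrpCat.{u + 1}} {P : GSheaf G}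
    (h : P.LocallyNonempty) :
    ∃ (ι : Type u) (V : ι → Y.Etale), EtCoh.Covers V ∧ ∀ i, Nonempty (P.P.obj.obj (op (V i))) := by
  obtain ⟨S, hS, hs⟩ := h (EtCoh.top Y)
  have eY : Y.smallEtaleTopology =
      (Y.smallPretopology (P := EtCoh.etaleMP) (Q := EtCoh.etaleMP)).toGrothendieck :=
    Scheme.smallGrothendieckTopology_eq_toGrothendieck_smallPretopology Y le_rfl
  rw [eY] at hS
  replace hS := (Scheme.mem_toGrothendieck_smallPretopology (EtCoh.top Y) S).1 hS
  choose V g v hg _ hv using hS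
  refine ⟨↥Y, V, fun y => ⟨y, v y, ?_⟩, fun y => hs (g y) (hg y)⟩
  have e : (g y).left ≫ (EtCoh.top Y).hom = (V y).hom := Over.w (g y).hom
  rw [← e]
  show (g y).left (v y) = y
  exact hv y

end Groth.Agent.GShLib28
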