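import Groth.Agent.GShLib28.Basic
import Mathlib.Algebra.Category.Grp.FilteredColimits
import Mathlib.CategoryTheory.Sites.Point.Basic
import Mathlib.CategoryTheory.Sites.Over

/-!
The sheaf of families of elements indexed by the points of a site has trivial torsors.
-/

universe w v u

open CategoryTheory Opposite
open Groth.Agent.CechTorsor (set_sep)

namespace Groth.Agent.GShLib28

open NonAbH1

variable {C : Type u} [Category.{v} C] {ι : Type w} (Φ : ι → C ⥤ Type w) (M : ι → GrpCat.{w})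

/-- Families of elements indexed by all points lying over an object. -/
def ptProd : Cᵒᵖ ⥤ GrpCat.{w} where
  obj U := GrpCat.of (∀ i : ι, (Φ i).obj U.unop → M i)
  map k := GrpCat.ofHom
    { toFun := fun g i ξ => g i ((Φ i).map k.unop ξ)
      map_one' := rfl
      map_mul' := fun _ _ => rfl }
  map_id U := by
    ext g i ξ
    show g i ((Φ i).map (𝟙 U.unop) ξ) = g i ξ
    rw [Functor.map_id_apply]
  map_comp k l := by
    ext g i ξ
    show g i ((Φ i).map (l.unop ≫ k.unop) ξ) = g i ((Φ i).map k.unop ((Φ i).map l.unop ξ))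
    rw [Functor.map_comp_apply]

variable (J : GrothendieckTopology C)

/-- The joint surjectivity and common refinement properties of a family of points. -/
structure GoodFam : Prop where
  surj : ∀ (i : ι) {X : C} (R : Sieve X), R ∈ J X → ∀ x : (Φ i).obj X,
    ∃ (Y : C) (f : Y ⟶ X) (_ : R f) (y : (Φ i).obj Y), (Φ i).map f y = x
  common : ∀ (i : ι) {Y Y' Z : C} (f : Y ⟶ Z) (f' : Y' ⟶ Z) (y : (Φ i).obj Y) (y' : (Φ i).obj Y'),
    (Φ i).map f y = (Φ i).map f' y' → ∃ (W : C) (ζ : (Φ i).obj W) (a : W ⟶ Y) (b : W ⟶ Y'),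
      (Φ i).map a ζ = y ∧ (Φ i).map b ζ = y' ∧ a ≫ f = b ≫ f'
  equalize : ∀ (i : ι) {Y Z : C} (f f' : Y ⟶ Z) (y : (Φ i).obj Y),
    (Φ i).map f y = (Φ i).map f' y → ∃ (W : C) (ζ : (Φ i).obj W) (e : W ⟶ Y),
      (Φ i).map e ζ = y ∧ e ≫ f = e ≫ f'

variable {Φ J}

theorem ptProd_isSheaf (hΦ : GoodFam Φ J) : Presheaf.IsSheaf J (ptProd Φ M) := by
  intro E X S hS fam hfam
  let x : ∀ ⦃T : C⦄ (f : T ⟶ X), S f → (E →* (∀ i : ι, (Φ i).obj T → M i)) := fun T f hf =>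
    (show E ⟶ GrpCat.of (∀ i : ι, (Φ i).obj T → M i) from fam f hf).hom
  have hx : ∀ ⦃T : C⦄ (f : T ⟶ X) (hf : S f) ⦃T' : C⦄ (f' : T' ⟶ X) (hf' : S f') (i : ι)
      (y : (Φ i).obj T) (y' : (Φ i).obj T'), (Φ i).map f y = (Φ i).map f' y' →
      ∀ e : E, x f hf e i y = x f' hf' e i y' := by
    intro T f hf T' f' hf' i y y' h e
    obtain ⟨W, ζ, a, b, rfl, rfl, hab⟩ := hΦ.common i f f' y y' h
    exact congrFun (congrFun (ConcreteCategory.congr_hom (hfam a b hf hf' hab) e) i) ζ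
  choose Y f hf y hy using fun (i : ι) (ξ : (Φ i).obj X) => hΦ.surj i S hS ξ
  refine ⟨GrpCat.ofHom (Y := (ptProd Φ M).obj (op X))
    { toFun := fun e i ξ => x (f i ξ) (hf i ξ) e i (y i ξ)
      map_one' := by funext i ξ; simp; rfl
      map_mul' := fun e e' => by funext i ξ; simp; rfl }, fun T g hg => ?_, fun p hp => ?_⟩
  · refine GrpCat.hom_ext (MonoidHom.ext fun e => ?_)
    funext i ξ
    exact hx _ _ g hg i _ _ (hy i _) e
  · refine GrpCat.hom_ext (MonoidHom.ext fun e => ?_)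
    funext i ξ
    refine Eq.trans ?_ (congrFun (congrFun (ConcreteCategory.congr_hom (hp (f i ξ) (hf i ξ)) e) i) (y i ξ))
    change (show E ⟶ (ptProd Φ M).obj (op X) from p) e i ξ =
      (show E ⟶ (ptProd Φ M).obj (op X) from p) e i ((Φ i).map (f i ξ) (y i ξ))
    rw [hy]

theorem ptProd_locally_trivial_isTrivial (hΦ : GoodFam Φ J)
    (P : GSheaf (⟨ptProd Φ M, ptProd_isSheaf M hΦ⟩ : Sheaf J GrpCat.{w})) (hP : P.IsTorsor) (X : C) :
    Nonempty (P.P.obj.obj (op X)) := by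
  classical
  obtain ⟨S, hS, hs⟩ := hP.2 X
  let s : ∀ ⦃T : C⦄ (f : T ⟶ X), S f → P.P.obj.obj (op T) := fun T f hf => (hs f hf).some
  choose γ hγ hγu using fun (U : Cᵒᵖ) (p q : P.P.obj.obj U) => hP.1 U p q
  have key : ∀ ⦃T T' W W' : C⦄ (f : T ⟶ X) (hf : S f) (f' : T' ⟶ X) (hf' : S f') (a : W ⟶ T) (b : W ⟶ T')
      (h : W' ⟶ W) (i : ι) (ζ : (Φ i).obj W'),
      γ _ (P.P.obj.map b.op (s f' hf')) (P.P.obj.map a.op (s f hf)) i ((Φ i).map h ζ) =
        γ _ (P.P.obj.map (h ≫ b).op (s f' hf')) (P.P.obj.map (h ≫ a).op (s f hf)) i ζ := by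
    intro T T' W W' f hf f' hf' a b h i ζ
    have := hγu _ (P.P.obj.map (h ≫ b).op (s f' hf')) (P.P.obj.map (h ≫ a).op (s f hf))
      ((ptProd Φ M).map h.op (γ _ (P.P.obj.map b.op (s f' hf')) (P.P.obj.map a.op (s f hf)))) (by
        show P.smul _ (P.P.obj.map (h ≫ b).op _) = _
        rw [← map_map', ← map_map', ← P.map_smul, hγ])
    exact congrFun (congrFun this i) ζ
  choose Y f₀ hf₀ y₀ hy₀ using fun (i : ι) (ξ : (Φ i).obj X) => hΦ.surj i S hS ξ
  choose W ζ a b ha hb hab using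
    fun (T : C) (f : T ⟶ X) (i : ι) (η : (Φ i).obj T) =>
      hΦ.common i (f₀ i ((Φ i).map f η)) f (y₀ i _) η (hy₀ i _)
  let k : ∀ ⦃T : C⦄ (f : T ⟶ X), S f → (∀ i : ι, (Φ i).obj T → M i) := fun T f hf i η =>
    γ _ (P.P.obj.map (b T f i η).op (s f hf))
      (P.P.obj.map (a T f i η).op (s (f₀ i ((Φ i).map f η)) (hf₀ _ _))) i (ζ T f i η)
  -- the value of `k` may be computed on any common refinement
  have hk : ∀ ⦃T : C⦄ (f : T ⟶ X) (hf : S f) (i : ι) (η : (Φ i).obj T) (ξ : (Φ i).obj X)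
      (_ : (Φ i).map f η = ξ) (W' : C) (ζ' : (Φ i).obj W') (a' : W' ⟶ Y i ξ) (b' : W' ⟶ T),
      (Φ i).map a' ζ' = y₀ i ξ → (Φ i).map b' ζ' = η →
      k f hf i η = γ _ (P.P.obj.map b'.op (s f hf)) (P.P.obj.map a'.op (s (f₀ i ξ) (hf₀ _ _))) i ζ' := by
    intro T f hf i η ξ hξ W' ζ' a' b' ha' hb'
    subst hξ
    obtain ⟨W₁, ζ₁, c, c', hc, hc', hcc⟩ :=
      hΦ.common i (a T f i η) a' (ζ T f i η) ζ' ((ha _ _ _ _).trans ha'.symm)
    obtain ⟨W₂, ζ₂, d, hd, hdd⟩ := hΦ.equalize i (c ≫ b T f i η) (c' ≫ b') ζ₁ (by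
      rw [Functor.map_comp_apply, Functor.map_comp_apply, hc, hc', hb, hb'])
    have h1 : (Φ i).map (d ≫ c) ζ₂ = ζ T f i η := by
      simp only [Functor.map_comp_apply, hd, hc]
    have h2 : (Φ i).map (d ≫ c') ζ₂ = ζ' := by
      simp only [Functor.map_comp_apply, hd, hc']
    show γ _ _ _ i (ζ T f i η) = _
    rw [← h1, ← h2, key (f₀ i _) (hf₀ i _) f hf (a T f i η) (b T f i η) (d ≫ c),
      key (f₀ i _) (hf₀ i _) f hf a' b' (d ≫ c')]
    simp only [Category.assoc, hcc, hdd]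
  have hcomp : ∀ ⦃T T' : C⦄ (f : T ⟶ X) (hf : S f) (h : T' ⟶ T),
      P.P.obj.map h.op (P.smul (k f hf) (s f hf)) =
        P.smul (k (h ≫ f) (S.downward_closed hf h)) (s (h ≫ f) (S.downward_closed hf h)) := by
    intro T T' f hf h
    have hhf := S.downward_closed hf h
    refine (P.map_smul h.op _ _).trans ?_
    rw [← hγ _ (s (h ≫ f) hhf) (P.P.obj.map h.op (s f hf))]
    refine (P.mul_smul _ _ _).symm.trans ?_
    congr 1
    funext i η
    show k f hf i ((Φ i).map h η) * γ _ (s (h ≫ f) hhf) (P.P.obj.map h.op (s f hf)) i η =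
      k (h ≫ f) hhf i η
    let ξ := (Φ i).map (h ≫ f) η
    obtain ⟨W', ζ', a', b', ha', hb', -⟩ :=
      hΦ.common i (f₀ i ξ) (h ≫ f) (y₀ i ξ) η (hy₀ i ξ)
    rw [hk f hf i _ ξ (Functor.map_comp_apply _ _ _ _).symm W' ζ' a' (b' ≫ h) ha'
        (by rw [Functor.map_comp_apply, hb']),
      hk (h ≫ f) hhf i η ξ rfl W' ζ' a' b' ha' hb']
    conv_lhs => rw [← hb']
    have hγr := hγu _ (P.P.obj.map b'.op (s (h ≫ f) hhf)) (P.P.obj.map (b' ≫ h).op (s f hf))
      ((ptProd Φ M).map b'.op (γ _ (s (h ≫ f) hhf) (P.P.obj.map h.op (s f hf)))) (by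
        show P.smul _ _ = _
        rw [← map_map']
        exact (P.map_smul b'.op _ _).symm.trans (by rw [hγ]))
    have hcoc := hγu _ (P.P.obj.map b'.op (s (h ≫ f) hhf))
      (P.P.obj.map a'.op (s (f₀ i ξ) (hf₀ _ _)))
      (γ _ (P.P.obj.map (b' ≫ h).op (s f hf)) (P.P.obj.map a'.op (s (f₀ i ξ) (hf₀ _ _))) *
        γ _ (P.P.obj.map b'.op (s (h ≫ f) hhf)) (P.P.obj.map (b' ≫ h).op (s f hf))) (by
        show P.smul _ _ = _
        refine (P.mul_smul _ _ _).trans ?_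
        rw [hγ, hγ])
    rw [← hcoc]
    show _ = (_ : M i) * (_ : M i)
    congr 1
    exact congrFun (congrFun hγr i) ζ'
  obtain ⟨p, -⟩ := set_glue P.P S hS (fun T f hf => P.smul (k f hf) (s f hf)) hcomp
  exact ⟨p⟩

theorem goodFam_of_points (Φ' : ι → GrothendieckTopology.Point.{w} J) :
    GoodFam (fun i => (Φ' i).fiber) J where
  surj i _ R hR x := (Φ' i).jointly_surjective R hR x
  common i Y Y' Z f f' y y' h := by
    let p : (Φ' i).fiber.elementsMk Y y ⟶ (Φ' i).fiber.elementsMk Z ((Φ' i).fiber.map f y) :=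
      CategoryOfElements.homMk _ _ f rfl
    let p' : (Φ' i).fiber.elementsMk Y' y' ⟶ (Φ' i).fiber.elementsMk Z ((Φ' i).fiber.map f y) :=
      CategoryOfElements.homMk _ _ f' h.symm
    obtain ⟨⟨W, ζ⟩, a, b, hab⟩ := IsCofiltered.cospan p p'
    exact ⟨W, ζ, a.1, b.1, a.2, b.2, congrArg Subtype.val hab⟩
  equalize i Y Z f f' y h := by
    let p : (Φ' i).fiber.elementsMk Y y ⟶ (Φ' i).fiber.elementsMk Z ((Φ' i).fiber.map f y) :=
      CategoryOfElements.homMk _ _ f rfl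
    let p' : (Φ' i).fiber.elementsMk Y y ⟶ (Φ' i).fiber.elementsMk Z ((Φ' i).fiber.map f y) :=
      CategoryOfElements.homMk _ _ f' h.symm
    exact ⟨(IsCofiltered.eq p p').1, (IsCofiltered.eq p p').2, (IsCofiltered.eqHom p p').1,
      (IsCofiltered.eqHom p p').2, congrArg Subtype.val (IsCofiltered.eq_condition p p')⟩

theorem GoodFam.over (hΦ : GoodFam Φ J) (U : C) :
    GoodFam (fun i => Over.forget U ⋙ Φ i) (J.over U) where
  surj i X R hR x := by
    obtain ⟨Y, f, hf, y, hy⟩ := hΦ.surj i _ ((J.mem_over_iff R).1 hR) x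
    exact ⟨Over.mk (f ≫ X.hom), Over.homMk f, (Sieve.overEquiv_iff R f).1 hf, y, hy⟩
  common i Y Y' Z f f' y y' h := by
    obtain ⟨W, ζ, a, b, ha, hb, hab⟩ := hΦ.common i f.left f'.left y y' h
    exact ⟨Over.mk (a ≫ Y.hom), ζ, Over.homMk a,
      Over.homMk b (by
        show b ≫ Y'.hom = a ≫ Y.hom
        rw [← Over.w f, ← Over.w f', reassoc_of% hab]), ha, hb, by ext; exact hab⟩
  equalize i Y Z f f' y h := by
    obtain ⟨W, ζ, e, he, hee⟩ := hΦ.equalize i f.left f'.left y h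
    exact ⟨Over.mk (e ≫ Y.hom), ζ, Over.homMk e, he, by ext; exact hee⟩

theorem ptProd_over_isTrivial (hΦ : GoodFam Φ J) (U : C)
    [(J.over U).HasSheafCompose (forget GrpCat.{w})]
    (P : Torsor (Sheaf.over (⟨ptProd Φ M, ptProd_isSheaf M hΦ⟩ : Sheaf J GrpCat.{w}) U)) : P.IsTrivial := by
  obtain ⟨p⟩ := ptProd_locally_trivial_isTrivial M (hΦ.over U) P.toGSheaf P.isTorsor (Over.mk (𝟙 U))
  refine isTrivial_of_section P.isTorsor.1
    ⟨fun V => P.P.obj.map (Over.homMk V.unop.hom (by simp) : V.unop ⟶ Over.mk (𝟙 U)).op p, fun {V V'} k => ?_⟩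
  obtain ⟨V⟩ := V
  obtain ⟨V'⟩ := V'
  show P.P.obj.map k _ = _
  refine (map_map' P.P.obj p _ k.unop).trans ?_
  refine congrArg (fun m : (op V').unop ⟶ Over.mk (𝟙 U) => P.P.obj.map m.op p) ?_
  ext
  exact Over.w k.unop

end Groth.Agent.GShLib28
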